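import Mathlib
import Groth.Agent.S11991

/-! # The `p`-degree of finitely generated extensions of Laurent series fields -/

set_option autoImplicit false
universe u
open scoped LaurentSeries

namespace PDeg31

variable {p : ℕ} [hp : Fact p.Prime] {k : Type u} [Field k] [CharP k p]

theorem powerSeries_eq_sum [PerfectRing k p] (f : PowerSeries k) :
    ∃ g : ℕ → PowerSeries k, f = ∑ j ∈ Finset.range p, PowerSeries.X ^ j * g j ^ p := by
  have : ExpChar k p := ExpChar.prime hp.out
  let g : ℕ → PowerSeries k := fun j =>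
    PowerSeries.mk fun n => (frobeniusEquiv k p).symm (PowerSeries.coeff (p * n + j) f)
  refine ⟨g, PowerSeries.ext fun m => ?_⟩
  have hpow : ∀ j, g j ^ p = PowerSeries.map (frobenius k p) (PowerSeries.expand p hp.out.ne_zero (g j)) :=
    fun j => (MvPowerSeries.map_frobenius_expand p hp.out.ne_zero).symm
  rw [map_sum, Finset.sum_eq_single (m % p)]
  · rw [PowerSeries.coeff_X_pow_mul', if_pos (Nat.mod_le _ _), hpow, PowerSeries.coeff_map]
    have : m - m % p = p * (m / p) := by have := Nat.div_add_mod m p; omega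
    rw [this, PowerSeries.coeff_expand_mul, PowerSeries.coeff_mk, frobenius_apply_frobeniusEquiv_symm,
      Nat.div_add_mod]
  · intro j hj hne
    rw [PowerSeries.coeff_X_pow_mul']
    split_ifs with h
    · rw [hpow, PowerSeries.coeff_map, PowerSeries.coeff_expand_of_not_dvd, map_zero]
      rintro ⟨c, hc⟩
      apply hne
      have hjp := Finset.mem_range.mp hj
      rw [show m = j + p * c by omega, Nat.add_mul_mod_self_left, Nat.mod_eq_of_lt hjp]
    · rfl
  · intro h
    exact absurd (Finset.mem_range.mpr (Nat.mod_lt _ hp.out.pos)) h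

theorem single_eq_zpow (n : ℤ) : (HahnSeries.single n (1 : k) : k⸨X⸩) = (HahnSeries.single 1 1 : k⸨X⸩) ^ n := by
  exact RatFunc.single_zpow n

theorem mem_subfield [PerfectRing k p] (G : Subfield k⸨X⸩) (hpG : ∀ g : k⸨X⸩, g ^ p ∈ G)
    (ht : (HahnSeries.single 1 1 : k⸨X⸩) ∈ G) (x : k⸨X⸩) : x ∈ G := by
  obtain ⟨g, hg⟩ := powerSeries_eq_sum (p := p) x.powerSeriesPart
  rw [← LaurentSeries.single_order_mul_powerSeriesPart x, hg, map_sum, Finset.mul_sum]
  refine sum_mem fun j _ => mul_mem ?_ ?_
  · rw [single_eq_zpow]; exact zpow_mem ht _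
  · rw [map_mul, map_pow, map_pow, HahnSeries.ofPowerSeries_X]
    exact mul_mem (pow_mem ht _) (hpG _)

theorem single_ne_pow (c : k⸨X⸩) : c ^ p ≠ (HahnSeries.single 1 1 : k⸨X⸩) := fun h => by
  have h' := congrArg HahnSeries.order h
  rw [HahnSeries.order_pow, HahnSeries.order_single one_ne_zero, nsmul_eq_mul] at h'
  exact hp.out.ne_one (by exact_mod_cast Int.eq_one_of_mul_eq_one_right (Int.natCast_nonneg p) h')

theorem mem_adjoin_pow_ne {L K : Type u} [Field L] [Field K] [Algebra L K] [CharP L p] {d : ℕ} {s : Fin d → K}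
    (hs : AlgebraicIndependent L s) {a : L} (ha : ∀ c : L, c ^ p ≠ a) {y : K}
    (hy : y ∈ IntermediateField.adjoin L (Set.range s)) : y ^ p ≠ algebraMap L K a := by
  intro h
  have : ExpChar L p := ExpChar.prime hp.out
  obtain ⟨r, q, rfl⟩ := (IntermediateField.mem_adjoin_range_iff L s y).mp hy
  by_cases hq : MvPolynomial.aeval s q = 0
  · rw [hq, div_zero, zero_pow hp.out.ne_zero, eq_comm, map_eq_zero] at h
    exact ha 0 (by rw [zero_pow hp.out.ne_zero, h])
  rw [div_pow, div_eq_iff (pow_ne_zero _ hq), ← map_pow, ← map_pow, ← MvPolynomial.aeval_C (R := L) s a,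
    ← map_mul] at h
  have hq0 : q ≠ 0 := fun e => hq (by rw [e, map_zero])
  obtain ⟨m, hm⟩ := MvPolynomial.exists_coeff_ne_zero hq0
  have h2 := congrArg (MvPolynomial.coeff (p • m)) (hs h)
  rw [MvPolynomial.coeff_C_mul, ← MvPolynomial.map_frobenius_expand, ← MvPolynomial.map_frobenius_expand,
    MvPolynomial.coeff_map, MvPolynomial.coeff_map, MvPolynomial.coeff_expand_smul _ hp.out.ne_zero,
    MvPolynomial.coeff_expand_smul _ hp.out.ne_zero, frobenius_def, frobenius_def] at h2
  exact ha (MvPolynomial.coeff m r / MvPolynomial.coeff m q) (by rw [div_pow, h2, mul_div_assoc,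
    div_self (pow_ne_zero _ hm), mul_one])

theorem finrank_eq (K : Type u) [Field K] [Algebra k⸨X⸩ K] [CharP K p] [Finite k]
    (hfg : (⊤ : IntermediateField k⸨X⸩ K).FG) (d : ℕ) (hd : Algebra.trdeg k⸨X⸩ K = d) :
    Module.finrank (frobenius K p).fieldRange K = p ^ (d + 1) := by
  classical
  haveI : ExpChar K p := ExpChar.prime hp.out
  haveI : CharP k⸨X⸩ p := (algebraMap k⸨X⸩ K).charP (algebraMap k⸨X⸩ K).injective p
  haveI : ExpChar k p := ExpChar.prime hp.out
  obtain ⟨B, hB⟩ := exists_isTranscendenceBasis k⸨X⸩ K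
  have hfinB : B.Finite := Cardinal.lt_aleph0_iff_set_finite.mp
    (by rw [hB.cardinalMk_eq_trdeg, hd]; exact Cardinal.natCast_lt_aleph0)
  have hcard : hfinB.toFinset.card = d := by
    have := hB.cardinalMk_eq_trdeg
    rw [hd] at this
    rw [← Set.ncard_eq_toFinset_card _ hfinB, ← Nat.card_coe_set_eq, Nat.card, this, Cardinal.toNat_natCast]
  have : Finite B := hfinB
  obtain ⟨s, hs⟩ : ∃ s : Fin d → K, IsTranscendenceBasis k⸨X⸩ s :=
    ⟨_, hB.comp_equiv ((Finite.equivFinOfCardEq (by
      rw [Nat.card_coe_set_eq, Set.ncard_eq_toFinset_card _ hfinB, hcard])).symm)⟩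
  set L := k⸨X⸩
  let φ : K →+* K := frobenius K p
  let T : K := algebraMap L K (HahnSeries.single 1 1)
  let F0 := IntermediateField.adjoin L (Set.range s)
  let F1 := IntermediateField.adjoin L (Set.range fun i => s i ^ p)
  let P := F0.toSubfield.map φ
  have h10 : F1 ≤ F0 := IntermediateField.adjoin_le_iff.mpr (by
    rintro _ ⟨i, rfl⟩
    exact pow_mem (IntermediateField.subset_adjoin L _ (Set.mem_range_self i)) p)
  have hTp : T ^ p ∈ P := ⟨T, F0.algebraMap_mem _, rfl⟩
  have hTnot : T ∉ P := fun ⟨y, hy, hy'⟩ => mem_adjoin_pow_ne hs.1 single_ne_pow hy hy'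
  let M := IntermediateField.adjoin P {T}
  have hmin : minpoly P T = Polynomial.X ^ p - Polynomial.C (⟨T ^ p, hTp⟩ : P) := by
    refine (minpoly.eq_of_irreducible_of_monic (X_pow_sub_C_irreducible_of_prime hp.out fun b hb => hTnot ?_)
      ?_ (Polynomial.monic_X_pow_sub_C _ hp.out.ne_zero)).symm
    · have h1 : (b : K) ^ p = T ^ p := congrArg Subtype.val hb
      have : (b : K) = T := frobenius_inj K p h1
      exact this ▸ b.2
    · show Polynomial.aeval T _ = 0
      rw [map_sub, map_pow, Polynomial.aeval_X, Polynomial.aeval_C]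
      exact sub_self _
  have hM : Module.finrank P M = p := by
    rw [IntermediateField.adjoin.finrank, hmin, Polynomial.natDegree_X_pow_sub_C]
    exact ⟨Polynomial.X ^ p - Polynomial.C (⟨T ^ p, hTp⟩ : P), Polynomial.monic_X_pow_sub_C _ hp.out.ne_zero, by
      rw [← Polynomial.aeval_def, map_sub, map_pow, Polynomial.aeval_X, Polynomial.aeval_C]; exact sub_self _⟩
  have hPF1 : P ≤ F1.toSubfield := by
    show F0.toSubfield.map φ ≤ _
    rw [IntermediateField.adjoin_toSubfield, RingHom.map_field_closure, Subfield.closure_le]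
    rintro _ ⟨x, hx | hx, rfl⟩
    · obtain ⟨a, rfl⟩ := hx
      show (algebraMap L K a) ^ p ∈ F1
      rw [← map_pow]
      exact F1.algebraMap_mem _
    · obtain ⟨i, rfl⟩ := hx
      exact IntermediateField.subset_adjoin L _ ⟨i, rfl⟩
  have hPM : ∀ x ∈ P, x ∈ M := fun x hx => M.algebraMap_mem ⟨x, hx⟩
  have hF1M : F1.toSubfield = M.toSubfield := by
    refine le_antisymm ?_ fun x hx => ?_
    · rw [IntermediateField.adjoin_toSubfield, Subfield.closure_le]
      rintro x (hx | hx)
      · obtain ⟨a, rfl⟩ := hx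
        exact mem_subfield (p := p) (M.toSubfield.comap (algebraMap L K)) (fun g => by
          show algebraMap L K (g ^ p) ∈ M
          rw [map_pow]
          exact hPM _ ⟨_, F0.algebraMap_mem g, rfl⟩) (IntermediateField.subset_adjoin P _ rfl) a
      · obtain ⟨i, rfl⟩ := hx
        exact hPM _ ⟨_, IntermediateField.subset_adjoin L _ (Set.mem_range_self i), rfl⟩
    · induction hx using IntermediateField.adjoin_induction with
      | mem y hy => rw [Set.mem_singleton_iff.mp hy]; exact F1.algebraMap_mem _
      | algebraMap y => exact hPF1 y.2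
      | add y z _ _ hy hz => exact add_mem hy hz
      | inv y _ hy => exact inv_mem hy
      | mul y z _ _ hy hz => exact mul_mem hy hz
  have e1 : P.relfinrank F1.toSubfield = p := by
    rw [hF1M, Subfield.relfinrank_eq_finrank_of_le (show P ≤ M.toSubfield from hPM)]
    exact hM
  have e2 : F1.toSubfield.relfinrank F0.toSubfield = p ^ d := by
    have := Groth.Agent.S11991.finrank_extendScalars hs.1 hp.out.pos h10
    rw [← IntermediateField.relfinrank_eq_finrank_of_le h10] at this
    exact this
  have e3 : P.relfinrank F0.toSubfield = p ^ (d + 1) := by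
    have := Subfield.relfinrank_mul_relfinrank (A := P) (B := F1.toSubfield) (C := F0.toSubfield) hPF1 h10
    exact this.symm.trans (by rw [e1, e2, pow_succ, mul_comm])
  have hfin : FiniteDimensional F0 K := by
    haveI : Algebra.IsAlgebraic F0 K := hs.isAlgebraic_field
    obtain ⟨t, ht⟩ := hfg
    have h1 : IntermediateField.adjoin F0 (t : Set K) = ⊤ := by
      rw [eq_top_iff]
      intro x _
      have : IntermediateField.adjoin L (t : Set K) ≤
          (IntermediateField.adjoin F0 (t : Set K)).restrictScalars L :=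
        IntermediateField.adjoin_le_iff.mpr fun y hy => IntermediateField.subset_adjoin F0 _ hy
      exact this (ht ▸ IntermediateField.mem_top)
    haveI := IntermediateField.finiteDimensional_adjoin (K := F0) (S := (t : Set K))
      fun x _ => (Algebra.IsAlgebraic.isAlgebraic x).isIntegral
    rw [h1] at this
    exact IntermediateField.topEquiv.toLinearEquiv.finiteDimensional
  have hR : (frobenius K p).fieldRange = (⊤ : Subfield K).map φ := (RingHom.fieldRange_eq_map φ)
  have hPR : P ≤ (frobenius K p).fieldRange := fun x ⟨y, _, hy⟩ => ⟨y, hy⟩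
  have h0 : P ≤ F0.toSubfield := hPF1.trans h10
  have e4 := Subfield.relfinrank_mul_finrank_top hPR
  have e5 := Subfield.relfinrank_mul_finrank_top h0
  have e6 : P.relfinrank (frobenius K p).fieldRange = Module.finrank F0 K := by
    rw [hR, Subfield.relfinrank_map_map, Subfield.relfinrank_top_right]
    rfl
  rw [e6, ← e5, e3, mul_comm (p ^ (d + 1))] at e4
  exact Nat.eq_of_mul_eq_mul_left Module.finrank_pos e4

end PDeg31
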